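import Mathlib

/-!
A change of coordinates with invertible Jacobian keeps a map to affine space étale.
-/

set_option autoImplicit false

universe u

open TensorProduct KaehlerDifferential

namespace Groth.Agent.EtaNoether

variable {V B : Type u} [CommRing V] [CommRing B] [Algebra V B] {d : ℕ}

/-- Linear combinations of the differentials of a tuple. -/
noncomputable def lin (V : Type u) [CommRing V] [Algebra V B] (x : Fin d → B) : (Fin d → B) →ₗ[B] Ω[B⁄V] :=
  Fintype.linearCombination B fun i => D V B (x i)

theorem mapBaseChange_eq [Algebra (MvPolynomial (Fin d) V) B] [IsScalarTower V (MvPolynomial (Fin d) V) B]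
    (x : Fin d → B) (hx : ∀ i, algebraMap (MvPolynomial (Fin d) V) B (MvPolynomial.X i) = x i) :
    mapBaseChange V (MvPolynomial (Fin d) V) B =
      lin V x ∘ₗ ((mvPolynomialBasis V (Fin d)).baseChange B).equivFun.toLinearMap := by
  refine ((mvPolynomialBasis V (Fin d)).baseChange B).ext fun i => ?_
  have he : ((mvPolynomialBasis V (Fin d)).baseChange B).equivFun (((mvPolynomialBasis V (Fin d)).baseChange B) i) =
      Pi.single i 1 := funext fun j => by simp [Pi.single_apply, Finsupp.single_apply, eq_comm]
  rw [LinearMap.comp_apply, LinearEquiv.coe_toLinearMap, he, Module.Basis.baseChange_apply,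
    mapBaseChange_tmul, one_smul, mvPolynomialBasis_apply, map_D, hx, lin, Fintype.linearCombination_apply]
  simp [Pi.single_apply]

theorem lin_bijective_of_etale (x : Fin d → B)
    (h : (MvPolynomial.aeval x : MvPolynomial (Fin d) V →ₐ[V] B).toRingHom.Etale) :
    Algebra.FormallySmooth V B ∧ Algebra.FinitePresentation V B ∧ Function.Bijective (lin V x) := by
  letI := (MvPolynomial.aeval x : MvPolynomial (Fin d) V →ₐ[V] B).toRingHom.toAlgebra
  haveI : IsScalarTower V (MvPolynomial (Fin d) V) B :=
    IsScalarTower.of_algebraMap_eq fun v => ((MvPolynomial.aeval x).commutes v).symm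
  haveI : Algebra.Etale (MvPolynomial (Fin d) V) B := h
  refine ⟨Algebra.FormallySmooth.comp V (MvPolynomial (Fin d) V) B,
    Algebra.FinitePresentation.trans V (MvPolynomial (Fin d) V) B, ?_⟩
  have hb : Function.Bijective (mapBaseChange V (MvPolynomial (Fin d) V) B) :=
    (tensorKaehlerEquivOfFormallyEtale V (MvPolynomial (Fin d) V) B).bijective
  rw [mapBaseChange_eq x fun i => MvPolynomial.aeval_X x i, LinearMap.coe_comp, LinearEquiv.coe_toLinearMap] at hb
  exact (Function.Bijective.of_comp_iff _ ((mvPolynomialBasis V (Fin d)).baseChange B).equivFun.bijective).1 hb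

theorem etale_of_lin_bijective (x : Fin d → B) [Algebra.FormallySmooth V B] [Algebra.FinitePresentation V B]
    (hb : Function.Bijective (lin V x)) :
    (MvPolynomial.aeval x : MvPolynomial (Fin d) V →ₐ[V] B).toRingHom.Etale := by
  letI := (MvPolynomial.aeval x : MvPolynomial (Fin d) V →ₐ[V] B).toRingHom.toAlgebra
  haveI : IsScalarTower V (MvPolynomial (Fin d) V) B :=
    IsScalarTower.of_algebraMap_eq fun v => ((MvPolynomial.aeval x).commutes v).symm
  change Algebra.Etale (MvPolynomial (Fin d) V) B
  have hm : Function.Bijective (mapBaseChange V (MvPolynomial (Fin d) V) B) := by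
    rw [mapBaseChange_eq x fun i => MvPolynomial.aeval_X x i, LinearMap.coe_comp, LinearEquiv.coe_toLinearMap]
    exact hb.comp ((mvPolynomialBasis V (Fin d)).baseChange B).equivFun.bijective
  haveI : Algebra.FormallyUnramified (MvPolynomial (Fin d) V) B := by
    refine ⟨subsingleton_of_forall_eq 0 fun y => ?_⟩
    obtain ⟨z, rfl⟩ := KaehlerDifferential.map_surjective V (MvPolynomial (Fin d) V) B y
    exact (exact_mapBaseChange_map V (MvPolynomial (Fin d) V) B z).2 (hm.2 z)
  haveI : Algebra.FormallySmooth (MvPolynomial (Fin d) V) B := by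
    refine ⟨Module.Projective.of_free, subsingleton_of_forall_eq 0 fun y => ?_⟩
    have h1 : Algebra.H1Cotangent.δ V (MvPolynomial (Fin d) V) B y = 0 :=
      hm.1 ((Algebra.H1Cotangent.exact_δ_mapBaseChange V (MvPolynomial (Fin d) V) B _).2 ⟨y, rfl⟩ |>.trans
        (map_zero _).symm)
    obtain ⟨z, rfl⟩ := (Algebra.H1Cotangent.exact_map_δ V (MvPolynomial (Fin d) V) B y).1 h1
    rw [Subsingleton.elim z 0, map_zero]
  haveI : Algebra.FormallyEtale (MvPolynomial (Fin d) V) B :=
    Algebra.FormallyEtale.iff_formallyUnramified_and_formallySmooth.2 ⟨inferInstance, inferInstance⟩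
  haveI : Algebra.FinitePresentation (MvPolynomial (Fin d) V) B :=
    Algebra.FinitePresentation.of_restrict_scalars_finitePresentation V _ _
  exact ⟨inferInstance, inferInstance⟩

/-- Changing coordinates by an invertible Jacobian matrix. -/
theorem etale_of_det (x' x : Fin d → B)
    (h : (MvPolynomial.aeval x' : MvPolynomial (Fin d) V →ₐ[V] B).toRingHom.Etale)
    (M : Matrix (Fin d) (Fin d) B) (hu : IsUnit M.det)
    (hD : ∀ i, D V B (x i) = ∑ l, M i l • D V B (x' l)) :
    (MvPolynomial.aeval x : MvPolynomial (Fin d) V →ₐ[V] B).toRingHom.Etale := by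
  obtain ⟨_, _, hb⟩ := lin_bijective_of_etale x' h
  refine etale_of_lin_bijective x ?_
  have h1 : lin V x = lin V x' ∘ₗ Matrix.vecMulLinear M := LinearMap.ext fun c => by
    simp only [lin, LinearMap.comp_apply, Fintype.linearCombination_apply, Matrix.vecMulLinear_apply, Matrix.vecMul,
      dotProduct, hD, Finset.smul_sum, Finset.sum_smul, smul_smul]
    exact Finset.sum_comm
  rw [h1, LinearMap.coe_comp]
  have hM := (Matrix.isUnit_iff_isUnit_det M).2 hu
  exact hb.comp ⟨Matrix.vecMul_injective_of_isUnit hM, Matrix.vecMul_surjective_iff_isUnit.2 hM⟩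

/-- The same, with a unit factor on the new differentials. -/
theorem etale_of_det_unit (x' x : Fin d → B)
    (h : (MvPolynomial.aeval x' : MvPolynomial (Fin d) V →ₐ[V] B).toRingHom.Etale)
    (N : Matrix (Fin d) (Fin d) B) (hu : IsUnit N.det) {c : B} (hc : IsUnit c)
    (hD : ∀ i, c • D V B (x i) = ∑ l, N i l • D V B (x' l)) :
    (MvPolynomial.aeval x : MvPolynomial (Fin d) V →ₐ[V] B).toRingHom.Etale := by
  obtain ⟨c, rfl⟩ := hc
  refine etale_of_det x' x h ((↑c⁻¹ : B) • N) ?_ fun i => ?_
  · rw [Matrix.det_smul]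
    exact ((Units.isUnit _).pow _).mul hu
  · rw [← one_smul B (D V B (x i)), ← Units.inv_mul c, mul_smul, hD, Finset.smul_sum]
    exact Finset.sum_congr rfl fun l _ => by rw [Matrix.smul_apply, smul_eq_mul, mul_smul]

end Groth.Agent.EtaNoether
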