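import Mathlib

/-!
Noether normalisation with exponents divisible by a prescribed number, uniformly in two fibres.
-/

set_option autoImplicit false

universe u

open TensorProduct

namespace Groth.Agent.EtaNoether

/-- `P` has degree at most `n` with coefficient `c` in degree `n`. -/
def Top {S : Type*} [CommRing S] (P : Polynomial S) (n : ℕ) (c : S) : Prop :=
  P.natDegree ≤ n ∧ P.coeff n = c

theorem Top.mul {S : Type*} [CommRing S] {P Q : Polynomial S} {n m : ℕ} {c d : S} (hP : Top P n c) (hQ : Top Q m d) :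
    Top (P * Q) (n + m) (c * d) :=
  ⟨Polynomial.natDegree_mul_le_of_le hP.1 hQ.1, by
    rw [Polynomial.coeff_mul_add_eq_of_natDegree_le hP.1 hQ.1, hP.2, hQ.2]⟩

theorem Top.pow {S : Type*} [CommRing S] {P : Polynomial S} {n : ℕ} {c : S} (hP : Top P n c) (m : ℕ) :
    Top (P ^ m) (m * n) (c ^ m) :=
  ⟨Polynomial.natDegree_pow_le_of_le m hP.1, by rw [Polynomial.coeff_pow_of_natDegree_le hP.1, hP.2]⟩

theorem Top.prod {S : Type*} [CommRing S] {ι : Type*} (s : Finset ι) {P : ι → Polynomial S} {n : ι → ℕ} {c : ι → S}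
    (h : ∀ i ∈ s, Top (P i) (n i) (c i)) : Top (∏ i ∈ s, P i) (∑ i ∈ s, n i) (∏ i ∈ s, c i) := by
  classical
  induction s using Finset.induction with
  | empty => simp [Top]
  | insert i s hi ih =>
    rw [Finset.prod_insert hi, Finset.sum_insert hi, Finset.prod_insert hi]
    exact (h i (Finset.mem_insert_self _ _)).mul (ih fun j hj => h j (Finset.mem_insert_of_mem hj))

variable {ι : Type} [Fintype ι]

/-- Exponents separating monomials of bounded degree. -/
theorem exists_exponents (N : ℕ) (hN : 0 < N) (s : Finset (Option ι →₀ ℕ)) :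
    ∃ e : ι → ℕ, (∀ i, N ∣ e i ∧ 0 < e i) ∧
      Set.InjOn (fun m : Option ι →₀ ℕ => (m none + ∑ i, m (some i) * e i)) (s : Set (Option ι →₀ ℕ)) := by
  classical
  let B : ℕ := s.sup (fun m => Finset.univ.sup fun o => m o) + 1
  have hB : ∀ m ∈ s, ∀ o, m o < B := fun m hm o => Nat.lt_succ_of_le
    ((Finset.le_sup (f := fun o => m o) (Finset.mem_univ o)).trans
      (Finset.le_sup (f := fun q : Option ι →₀ ℕ => Finset.univ.sup fun o => q o) hm))
  let σ := Fintype.equivFin ι
  refine ⟨fun i => N * B * B ^ (σ i : ℕ), fun i => ⟨⟨B * B ^ (σ i : ℕ), mul_assoc _ _ _⟩, by positivity⟩, ?_⟩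
  intro m hm m' hm' h
  have key : ∀ q : Option ι →₀ ℕ, q ∈ s → (q none + ∑ i, q (some i) * (N * B * B ^ (σ i : ℕ))) =
      q none + N * B * (finFunctionFinEquiv (fun j => (⟨q (some (σ.symm j)) % B, Nat.mod_lt _ (Nat.succ_pos _)⟩ : Fin B)) : ℕ) := by
    intro q hq
    rw [finFunctionFinEquiv_apply, Finset.mul_sum, ← σ.symm.sum_comp]
    congr 1
    refine Finset.sum_congr rfl fun j _ => ?_
    simp only [Equiv.apply_symm_apply, Nat.mod_eq_of_lt (hB q hq _)]
    ring
  simp only at h
  rw [key m hm, key m' hm'] at h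
  have hnb : 0 < N * B := Nat.mul_pos hN (Nat.succ_pos _)
  have hlt : ∀ q ∈ s, q none < N * B := fun q hq => (hB q hq none).trans_le (Nat.le_mul_of_pos_left _ hN)
  have h0 : m none = m' none := by
    have := congrArg (· % (N * B)) h
    simpa [Nat.add_mul_mod_self_left, Nat.mod_eq_of_lt (hlt m hm), Nat.mod_eq_of_lt (hlt m' hm')] using this
  rw [h0] at h
  have h1 := finFunctionFinEquiv.injective (Fin.ext (Nat.eq_of_mul_eq_mul_left hnb (Nat.add_left_cancel h)))
  refine Finsupp.ext fun o => ?_
  cases o with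
  | none => exact h0
  | some i =>
    have h2 := congrArg Fin.val (congrFun h1 (σ i))
    simpa [Nat.mod_eq_of_lt (hB m hm _), Nat.mod_eq_of_lt (hB m' hm' _)] using h2

/-- One step of Noether normalisation. -/
theorem finite_step {F B : Type*} [Field F] [CommRing B] [Algebra F B] (y : Option ι → B) (e : ι → ℕ)
    (hy : (MvPolynomial.aeval y : MvPolynomial (Option ι) F →ₐ[F] B).toRingHom.Finite)
    (g : MvPolynomial (Option ι) F) (hg : g ≠ 0) (hgy : MvPolynomial.aeval y g = 0) (hpos : ∀ i, 0 < e i)
    (hinj : Set.InjOn (fun m : Option ι →₀ ℕ => (m none + ∑ i, m (some i) * e i)) (g.support : Set (Option ι →₀ ℕ))) :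
    (MvPolynomial.aeval (fun i => y (some i) + y none ^ e i) : MvPolynomial ι F →ₐ[F] B).toRingHom.Finite := by
  classical
  let z : ι → B := fun i => y (some i) + y none ^ e i
  let φ : MvPolynomial ι F →+* B := (MvPolynomial.aeval z : MvPolynomial ι F →ₐ[F] B).toRingHom
  let w : (Option ι →₀ ℕ) → ℕ := fun m => m none + ∑ i, m (some i) * e i
  let vals : Option ι → Polynomial (MvPolynomial ι F) := fun o =>
    o.elim Polynomial.X fun i => Polynomial.C (MvPolynomial.X i) - Polynomial.X ^ e i
  let coefs : Option ι → MvPolynomial ι F := fun o => o.elim 1 fun _ => -1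
  have hvals : ∀ o, Top (vals o) (o.elim 1 e) (coefs o) := by
    rintro (_ | i)
    · exact ⟨Polynomial.natDegree_X_le, Polynomial.coeff_X_one⟩
    · refine ⟨(Polynomial.natDegree_sub_le _ _).trans (max_le (by simp [vals]) (Polynomial.natDegree_X_pow_le _)), ?_⟩
      simp [vals, coefs, (hpos i).ne', Polynomial.coeff_C]
  let P : Polynomial (MvPolynomial ι F) :=
    MvPolynomial.eval₂ (Polynomial.C.comp MvPolynomial.C) vals g
  let T : (Option ι →₀ ℕ) → Polynomial (MvPolynomial ι F) := fun m =>
    Polynomial.C (MvPolynomial.C (g.coeff m)) * ∏ o, vals o ^ m o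
  have hT : ∀ m, Top (T m) (w m) (MvPolynomial.C (g.coeff m) * ∏ o, coefs o ^ m o) := fun m => by
    have h1 := (show Top (Polynomial.C (MvPolynomial.C (σ := ι) (g.coeff m))) 0 _ from
      ⟨(Polynomial.natDegree_C _).le, Polynomial.coeff_C_zero⟩).mul
      (Top.prod Finset.univ fun o _ => (hvals o).pow (m o))
    rwa [show 0 + ∑ o, m o * o.elim 1 e = w m by rw [Fintype.sum_option, zero_add]; simp [w]] at h1
  have hPsum : P = ∑ m ∈ g.support, T m := by
    simp only [P, MvPolynomial.eval₂_eq']
    rfl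
  obtain ⟨m₀, hm₀, hmax⟩ := Finset.exists_max_image g.support w (MvPolynomial.support_nonempty.2 hg)
  have hdeg : P.natDegree ≤ w m₀ :=
    hPsum ▸ Polynomial.natDegree_sum_le_of_forall_le _ _ fun m hm => (hT m).1.trans (hmax m hm)
  have hcoef : P.coeff (w m₀) = MvPolynomial.C (g.coeff m₀) * ∏ o, coefs o ^ m₀ o := by
    rw [hPsum, Polynomial.finsetSum_coeff, Finset.sum_eq_single m₀ ?_ (fun h => absurd hm₀ h), (hT m₀).2]
    intro m hm hne
    exact Polynomial.coeff_eq_zero_of_natDegree_lt ((hT m).1.trans_lt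
      (lt_of_le_of_ne (hmax m hm) fun h => hne (hinj hm hm₀ h)))
  have haev : ∀ o, Polynomial.eval₂ φ (y none) (vals o) = y o := by
    rintro (_ | i)
    · simp [vals]
    · simp [vals, φ, z, Polynomial.eval₂_sub]
  have hroot : Polynomial.eval₂ φ (y none) P = 0 := by
    have hhom : ((Polynomial.eval₂RingHom φ (y none)).comp
        (MvPolynomial.eval₂Hom (Polynomial.C.comp MvPolynomial.C) vals)) =
        (MvPolynomial.aeval y : MvPolynomial (Option ι) F →ₐ[F] B).toRingHom :=
      MvPolynomial.ringHom_ext (fun c => by simp [φ]) fun o => by simpa using haev o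
    exact (RingHom.congr_fun hhom g).trans hgy
  -- the last variable is integral
  have hint : ∀ o, φ.IsIntegralElem (y o) := by
    have hlast : φ.IsIntegralElem (y none) := by
      have hu : IsUnit (P.coeff (w m₀)) := by
        rw [hcoef]
        refine ((IsUnit.mk0 _ (MvPolynomial.mem_support_iff.1 hm₀)).map _).mul (IsUnit.prod_iff.2 fun o _ => ?_)
        refine IsUnit.pow _ ?_
        rcases o with _ | i
        · exact isUnit_one
        · simp [coefs]
      obtain ⟨u, hu⟩ := hu
      refine ⟨Polynomial.C (↑u⁻¹ : MvPolynomial ι F) * P, Polynomial.monic_of_natDegree_le_of_coeff_eq_one (w m₀)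
        ((Polynomial.natDegree_C_mul_le _ _).trans hdeg) (by rw [Polynomial.coeff_C_mul, ← hu, Units.inv_mul]), ?_⟩
      rw [Polynomial.eval₂_mul, hroot, mul_zero]
    rintro (_ | i)
    · exact hlast
    · have h1 : y (some i) = φ (MvPolynomial.X i) - y none ^ e i := by simp [φ, z]
      rw [h1]
      letI := φ.toAlgebra
      exact (isIntegral_algebraMap (R := MvPolynomial ι F)).sub (IsIntegral.pow hlast _)
  letI := φ.toAlgebra
  haveI : IsScalarTower F (MvPolynomial ι F) B :=
    IsScalarTower.of_algebraMap_eq fun c => ((MvPolynomial.aeval z).commutes c).symm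
  change (algebraMap (MvPolynomial ι F) B).Finite
  rw [RingHom.finite_algebraMap]
  haveI : Algebra.FiniteType F B := by
    rw [← RingHom.finiteType_algebraMap,
      show algebraMap F B = (MvPolynomial.aeval y : MvPolynomial (Option ι) F →ₐ[F] B).toRingHom.comp MvPolynomial.C from
        RingHom.ext fun c => by simp]
    exact hy.finiteType.comp ((RingHom.finiteType_algebraMap).2 inferInstance)
  haveI : Algebra.FiniteType (MvPolynomial ι F) B := Algebra.FiniteType.of_restrictScalars_finiteType F _ _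
  haveI : Algebra.IsIntegral (MvPolynomial ι F) B := by
    refine ⟨fun b => ?_⟩
    let C' := integralClosure (MvPolynomial ι F) B
    have hrange : ∀ q : MvPolynomial (Option ι) F, MvPolynomial.aeval y q ∈ C' := fun q => by
      induction q using MvPolynomial.induction_on with
      | C c => rw [MvPolynomial.aeval_C, IsScalarTower.algebraMap_apply F (MvPolynomial ι F) B]; exact C'.algebraMap_mem _
      | add p q hp hq => rw [map_add]; exact add_mem hp hq
      | mul_X p o hp => rw [map_mul, MvPolynomial.aeval_X]; exact mul_mem hp (hint o)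
    obtain ⟨q, hq, hqb⟩ := hy.to_isIntegral b
    let ψ : MvPolynomial (Option ι) F →+* C' :=
      (MvPolynomial.aeval y : MvPolynomial (Option ι) F →ₐ[F] B).toRingHom.codRestrict C'.toSubring hrange
    refine isIntegral_trans (A := C') b ⟨q.map ψ, hq.map ψ, ?_⟩
    rw [Polynomial.eval₂_map]
    exact hqb
  exact Algebra.IsIntegral.finite

variable {V : Type u} [CommRing V] {R : Type u} [CommRing R] [Algebra V R]

theorem aeval_one_tmul {κ : Type} (F : Type u) [CommRing F] [Algebra V F] (y : κ → R) (p : MvPolynomial κ V) :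
    MvPolynomial.aeval (fun i => (1 : F) ⊗ₜ[V] y i) p = (1 : F) ⊗ₜ[V] MvPolynomial.aeval y p :=
  (MvPolynomial.comp_aeval_apply (f := y) (Algebra.TensorProduct.includeRight : R →ₐ[V] F ⊗[V] R) p).symm

/-- The fibre over `F` is finite over the polynomial ring in `y`. -/
def FinFib {κ : Type} (F : Type u) [Field F] [Algebra V F] (y : κ → R) : Prop :=
  (MvPolynomial.aeval (fun i => (1 : F) ⊗ₜ[V] y i) : MvPolynomial κ F →ₐ[F] F ⊗[V] R).toRingHom.Finite

theorem FinFib.congr {κ κ' : Type} (F : Type u) [Field F] [Algebra V F] {y : κ → R} (σ : κ' ≃ κ)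
    (h : FinFib (V := V) F y) : FinFib (V := V) F (y ∘ σ) := by
  have h1 : (MvPolynomial.aeval (fun i => (1 : F) ⊗ₜ[V] (y ∘ σ) i) : MvPolynomial κ' F →ₐ[F] F ⊗[V] R) =
      (MvPolynomial.aeval fun i => (1 : F) ⊗ₜ[V] y i).comp (MvPolynomial.renameEquiv F σ).toAlgHom :=
    MvPolynomial.algHom_ext fun i => by simp
  rw [FinFib, h1]
  exact h.comp (RingHom.Finite.of_surjective _ (MvPolynomial.renameEquiv F σ).surjective)

theorem finFib_of_surjective {κ : Type} (F : Type u) [Field F] [Algebra V F] (y : κ → R)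
    (hy : Function.Surjective (MvPolynomial.aeval y : MvPolynomial κ V →ₐ[V] R)) : FinFib (V := V) F y := by
  refine RingHom.Finite.of_surjective _ fun z => ?_
  induction z using TensorProduct.induction_on with
  | zero => exact ⟨0, map_zero _⟩
  | add a b ha hb =>
    obtain ⟨p, hp⟩ := ha
    obtain ⟨q, hq⟩ := hb
    exact ⟨p + q, by rw [map_add, hp, hq]⟩
  | tmul c r =>
    obtain ⟨p, rfl⟩ := hy r
    refine ⟨MvPolynomial.C c * MvPolynomial.map (algebraMap V F) p, ?_⟩
    rw [AlgHom.toRingHom_eq_coe, RingHom.coe_coe, map_mul, MvPolynomial.aeval_C, MvPolynomial.aeval_map_algebraMap,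
      aeval_one_tmul]
    simp

theorem FinFib.step (F : Type u) [Field F] [Algebra V F] {y : Option ι → R} (e : ι → ℕ) (hpos : ∀ i, 0 < e i)
    (h : FinFib (V := V) F y)
    (f : MvPolynomial (Option ι) V) (hf : MvPolynomial.aeval y f = 0) (hF : MvPolynomial.map (algebraMap V F) f ≠ 0)
    (hinj : Set.InjOn (fun m : Option ι →₀ ℕ => (m none + ∑ i, m (some i) * e i)) (f.support : Set (Option ι →₀ ℕ))) :
    FinFib (V := V) F (fun i => y (some i) + y none ^ e i) := by
  have h1 := finite_step (fun o => (1 : F) ⊗ₜ[V] y o) e h (MvPolynomial.map (algebraMap V F) f) hF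
    (by
      rw [MvPolynomial.aeval_map_algebraMap, aeval_one_tmul, hf, TensorProduct.tmul_zero])
    hpos (hinj.mono (Finset.coe_subset.2 (MvPolynomial.support_map_subset _ _)))
  unfold FinFib
  simpa [TensorProduct.tmul_add, Algebra.TensorProduct.tmul_pow] using h1

end Groth.Agent.EtaNoether
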